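set_option autoImplicit false
namespace Cfsg.Agent.Lib.Helper6.TCD.S44a
noncomputable def GT (i : Nat) : Nat := Nat.land (Nat.shiftRight 0x4250002c70002c60002a70002a60002a40002a20002750002650002370002350002150002050002020001f50001f20001e70001b60001a40001930001920001860001840001770001720001640001310001250001230001220001120001020000f30000f20000f10000e30000e20000e10000d40000d30000d20000b60000b50000b30000a50000a30000a0000095000094000093000091000090000087000086000073000071000065000064000063000061000055000054000053000052000051000050000047000046000045000037000036000035000033000031000027000026000024000022000017000016000014000012000010000005000000 (Nat.mul 24 (Nat.land i 1023))) 16777215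
end Cfsg.Agent.Lib.Helper6.TCD.S44a
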