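set_option autoImplicit false
namespace Cfsg.Agent.Lib.Helper6.TCD.S44a
noncomputable def HR (i : Nat) : Nat := Nat.land (Nat.shiftRight 0x352000025200003520000252000034200002420000222000025200003220000441000035200003120000322000042100003320000421000045100004410000341000033100003210000321000043100004410000421000045100003110000511000033100003210000441000024200003310000321000031100004510000351000042100001420000132000012200003510000112000033100004310000331000030100004310000351000043100004110000351000035100003410000331000031100003310000241000023100002110000331000035100003310000201000035100002210000251000035100003220000251000030100000020000231000021100002510000321000024100002210000151000025100001410000121000010100000010000000 (Nat.mul 28 (Nat.land i 1023))) 268435455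
end Cfsg.Agent.Lib.Helper6.TCD.S44a
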