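set_option autoImplicit false
namespace Cfsg.Agent.Lib.Helper6.TCD.S44a
noncomputable def P0 (i : Nat) : Nat := Nat.land (Nat.shiftRight 0x54a74a8d09f3a6cc6d2a4c87f19e397af9c378f0a1c54452241812dab160bda3364b96ac52a95a750291914aec49b2e30596406091a3e7033a0a652101c3c69e3a9908406549880e04100 (Nat.mul 7 (Nat.land i 127))) 127
end Cfsg.Agent.Lib.Helper6.TCD.S44a
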