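set_option autoImplicit false
namespace Cfsg.Agent.Lib.Helper6.TCD.S44a
noncomputable def P1 (i : Nat) : Nat := Nat.land (Nat.shiftRight 0x4da74a4b55cb6a48971a8cc8f2a2b4869cd407ea1ebc424d8986eda844663dcb01d3e72c3c3463e8480b9c3e25da646ac3a415043384a449057454b1064bd529066d1083a64a041608080 (Nat.mul 7 (Nat.land i 127))) 127
end Cfsg.Agent.Lib.Helper6.TCD.S44a
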