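set_option autoImplicit false
namespace Cfsg.Agent.Lib.Helper6.TCD.S44a
noncomputable def P2 (i : Nat) : Nat := Nat.land (Nat.shiftRight 0x519926a4690aa6d3492a94f4140fa57af9c19370a19744511c124448311ea1a0e4eb968d2d38e325e8624b72ed3478a30c297e2e01d78ac2ba0cddb3566c161e3424504044ca88021c180 (Nat.mul 7 (Nat.land i 127))) 127
end Cfsg.Agent.Lib.Helper6.TCD.S44a
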