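set_option autoImplicit false
namespace Cfsg.Agent.Lib.Helper6.TCD.S44a
noncomputable def P3 (i : Nat) : Nat := Nat.land (Nat.shiftRight 0x48a74a34fa0aa64d6d265547f45e327a6ccb78e821c52e91792812d70f611073372d46ac3b385a614a10ba127d2be441d593841a0957614c1138e0a1068c5683529d1843c68b081804100 (Nat.mul 7 (Nat.land i 127))) 127
end Cfsg.Agent.Lib.Helper6.TCD.S44a
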