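set_option autoImplicit false
namespace Cfsg.Agent.Lib.Helper6.TCD.S44a
noncomputable def P5 (i : Nat) : Nat := Nat.land (Nat.shiftRight 0x42812ddcfa0ad3a6a48d0a0867deba8f51953786e2bfa3109146ed97136104ab322d4f2c9c2ce8a9b30499945e4c88cb54867c3d20544398b868e5784345818754a12881870c101a08001 (Nat.mul 7 (Nat.land i 127))) 127
end Cfsg.Agent.Lib.Helper6.TCD.S44a
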