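set_option autoImplicit false
namespace Cfsg.Agent.Lib.Helper6.TCD.S44a
noncomputable def P6 (i : Nat) : Nat := Nat.land (Nat.shiftRight 0x4f594d5519d516c94735ac8751929e48f22a2772cb9c30a18b6285a62f4310e9352ba5521941a4780c209b7c9ca8840c9cc286ddebf32e199a4c10910063c68b560851f0e043111c24280 (Nat.mul 7 (Nat.land i 127))) 127
end Cfsg.Agent.Lib.Helper6.TCD.S44a
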