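set_option autoImplicit false
namespace Cfsg.Agent.Lib.Helper6.TCD.S44a
noncomputable def P7 (i : Nat) : Nat := Nat.land (Nat.shiftRight 0x4ea4b282aa93e5357cb6648511a0b236712a7308ccc27f1ce9634e24a92a79ca668ba6d317457ba444e2c3970199f11118bc4850bbb7ad90b760442101c0c6ab18241200e140921e28300 (Nat.mul 7 (Nat.land i 127))) 127
end Cfsg.Agent.Lib.Helper6.TCD.S44a
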