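import Cfsg.Agent.Lib.Helper6.TCD.S44a.SCP0
import Cfsg.Agent.Lib.Helper6.TCD.S44a.SCP1
set_option autoImplicit false
namespace Cfsg.Agent.Lib.Helper6.TCD.S44a
noncomputable def SC (i : Nat) : Nat := Bool.rec (SCP0N62 i) (SCP1N15 i) (Nat.ble 65536 i)
end Cfsg.Agent.Lib.Helper6.TCD.S44a
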