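import Cfsg.Agent.Lib.Helper6.TC11
import Cfsg.Agent.Lib.Helper6.TCD.S44a.Par
set_option autoImplicit false
set_option maxRecDepth 1000000
set_option Elab.async false
open Cfsg.Agent.Lib.Helper6.TC
namespace Cfsg.Agent.Lib.Helper6.TCD.S44a
theorem chkP0 : chkCol P0 P0 85 = true := by decide +kernel
theorem chkP1 : chkCol P1 P1 85 = true := by decide +kernel
theorem chkP2 : chkCol P2 P2 85 = true := by decide +kernel
theorem chkP3 : chkCol P3 P3 85 = true := by decide +kernel
theorem chkP4 : chkCol P4 P4 85 = true := by decide +kernel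
theorem chkP5 : chkCol P5 P5 85 = true := by decide +kernel
theorem chkP6 : chkCol P6 P7 85 = true := by decide +kernel
theorem chkP7 : chkCol P7 P6 85 = true := by decide +kernel
end Cfsg.Agent.Lib.Helper6.TCD.S44a
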