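import Cfsg.Agent.Lib.Helper6.TC13
import Cfsg.Agent.Lib.Helper6.TCD.S44a.Par
set_option autoImplicit false
set_option maxRecDepth 1000000
set_option Elab.async false
open Cfsg.Agent.Lib.Helper6.TC
namespace Cfsg.Agent.Lib.Helper6.TCD.S44a
theorem chkR5_0 : chkFix R5 0 85 = true := by decide +kernel
theorem chkR6_0 : chkFix R6 0 85 = true := by decide +kernel
theorem chkR7_0 : chkFix R7 0 85 = true := by decide +kernel
theorem chkR8_0 : chkFix R8 0 85 = true := by decide +kernel
theorem chkR9_0 : chkFix R9 0 85 = true := by decide +kernel
theorem chkR10_0 : chkFix R10 0 85 = true := by decide +kernel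
theorem chkR11_0 : chkFix R11 0 85 = true := by decide +kernel
theorem chkR12_0 : chkFix R12 0 85 = true := by decide +kernel
theorem chkR13_0 : chkFix R13 0 85 = true := by decide +kernel
theorem chkR14_0 : chkFix R14 0 85 = true := by decide +kernel
theorem chkR15_0 : chkFix R15 0 85 = true := by decide +kernel
theorem chkR16_0 : chkFix R16 0 85 = true := by decide +kernel
theorem chkR17_0 : chkFix R17 0 85 = true := by decide +kernel
theorem chkR18_0 : chkFix R18 0 85 = true := by decide +kernel
theorem chkR19_0 : chkFix R19 0 85 = true := by decide +kernel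
theorem chkR20_0 : chkFix R20 0 85 = true := by decide +kernel
theorem chkR21_0 : chkFix R21 0 85 = true := by decide +kernel
theorem chkR23_0 : chkFix R23 0 85 = true := by decide +kernel
theorem chkR24_0 : chkFix R24 0 85 = true := by decide +kernel
theorem chkR25_0 : chkFix R25 0 85 = true := by decide +kernel
theorem chkR26_0 : chkFix R26 0 85 = true := by decide +kernel
end Cfsg.Agent.Lib.Helper6.TCD.S44a
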