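import Cfsg.Agent.Lib.Helper6.TCD.S44a.CS0
import Cfsg.Agent.Lib.Helper6.TCD.S44a.CS1
import Cfsg.Agent.Lib.Helper6.TCD.S44a.CS2
import Cfsg.Agent.Lib.Helper6.TCD.S44a.CS3
import Cfsg.Agent.Lib.Helper6.TCD.S44a.CS4
import Cfsg.Agent.Lib.Helper6.TCD.S44a.CS5
import Cfsg.Agent.Lib.Helper6.TCD.S44a.CS6
import Cfsg.Agent.Lib.Helper6.TCD.S44a.CS7
import Cfsg.Agent.Lib.Helper6.TCD.S44a.CS8
import Cfsg.Agent.Lib.Helper6.TCD.S44a.CS9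
import Cfsg.Agent.Lib.Helper6.TCD.S44a.CS10
import Cfsg.Agent.Lib.Helper6.TCD.S44a.CN0
import Cfsg.Agent.Lib.Helper6.TCD.S44a.CN1
import Cfsg.Agent.Lib.Helper6.TCD.S44a.CC
import Cfsg.Agent.Lib.Helper6.TCD.S44a.CPa0
import Cfsg.Agent.Lib.Helper6.TCD.S44a.CPb
import Cfsg.Agent.Lib.Helper6.TCD.S44a.CPc0
import Cfsg.Agent.Lib.Helper6.TCD.S44a.CR0
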