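set_option autoImplicit false
namespace Cfsg.Agent.Lib.Helper6.TCD.S44a
noncomputable def P4 (i : Nat) : Nat := Nat.land (Nat.shiftRight 0x51a74aa4e55424ca81326c67921fb960693cb8a619c72c8e2286cdd6b17abda436435aac533d5b88248a09747089526305a20d0853e0aed0253e990901c3d71e3a65202066cb810e20200 (Nat.mul 7 (Nat.land i 127))) 127
end Cfsg.Agent.Lib.Helper6.TCD.S44a
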